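import Groth.Agent.L15.PicLift.Core
import Mathlib.Topology.Connected.Clopen

/-!
Separation of zero loci when every connected closed subset meets the closed subscheme in a connected set.
-/

set_option autoImplicit false
universe u

open CategoryTheory AlgebraicGeometry TopologicalSpace

noncomputable section

namespace Groth.L15.PicLift

variable {X X₀ : Scheme.{u}}

theorem nonempty_inter_of_isClosed {S : Set X}
    (hb : ∀ Y : Set X, IsClosed Y → Y.Nonempty → _root_.IsConnected Y →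
      (Y ∩ S).Nonempty ∧ _root_.IsConnected (Y ∩ S))
    {T : Set X} (hT : IsClosed T) (hne : T.Nonempty) : (T ∩ S).Nonempty := by
  obtain ⟨x, hx⟩ := hne
  have hconn : _root_.IsConnected (connectedComponentIn T x) :=
    isConnected_connectedComponentIn_iff.2 hx
  have hsub : closure (connectedComponentIn T x) ⊆ T :=
    closure_minimal (connectedComponentIn_subset T x) hT
  obtain ⟨y, hy, hyS⟩ := (hb _ isClosed_closure hconn.closure.nonempty hconn.closure).1
  exact ⟨y, hsub hy, hyS⟩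

theorem separates_of_connected [IsNoetherian X] (i : X₀ ⟶ X) [IsClosedImmersion i]
    (hb : ∀ Y : Set X, IsClosed Y → Y.Nonempty → _root_.IsConnected Y →
      (Y ∩ Set.range i.base).Nonempty ∧ _root_.IsConnected (Y ∩ Set.range i.base)) :
    Separates i := by
  intro z hz W _ P hzW hzP hzero
  have hiz : IsClosed ({i z} : Set X) := by
    have := i.isClosedEmbedding.isClosedMap {z} hz
    rwa [Set.image_singleton] at this
  set C : Set X := closure ((W : Set X) \ (X.basicOpen P : Set X)) with hC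
  have hCW : C ∩ (W : Set X) ⊆ (X.basicOpen P : Set X)ᶜ := fun x hx h => by
    obtain ⟨y, hy, hy'⟩ := mem_closure_iff.1 hx.1 _ (X.basicOpen P).isOpen h
    exact hy'.2 hy
  obtain ⟨S, hSfin, hSc, hSirr, hSU⟩ :=
    TopologicalSpace.NoetherianSpace.exists_finite_set_isClosed_irreducible (α := X) (isClosed_closure : IsClosed C)
  have hS : ∀ Y ∈ S, Y ⊆ C := fun Y hY => (Set.subset_sUnion_of_mem hY).trans hSU.ge
  have hsub : ∀ Y ∈ S, ∀ x : X₀, i x ∈ Y → i x ∈ W → x = z := fun Y hY x hx hxW =>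
    hzero x hxW (hCW ⟨hS Y hY hx, hxW⟩)
  -- components through the point stay inside the open
  have hin : ∀ Y ∈ S, i z ∈ Y → Y ⊆ W ∧ ∀ x : X₀, i x ∈ Y → x = z := by
    intro Y hY hzY
    have hall : ∀ x : X₀, i x ∈ Y → x = z := by
      intro x hx
      by_contra hne
      obtain ⟨y, hy, h1, h2⟩ := (hb Y (hSc Y hY) ⟨i z, hzY⟩ (hSirr Y hY).isConnected).2.2
        (W : Set X) ({i z} : Set X)ᶜ W.isOpen hiz.isOpen_compl
        (fun y _ => by
          by_cases h : y = i z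
          · exact Or.inl (h ▸ hzW)
          · exact Or.inr h)
        ⟨i z, ⟨hzY, z, rfl⟩, hzW⟩
        ⟨i x, ⟨hx, x, rfl⟩, fun h => hne (i.isClosedEmbedding.injective h)⟩
      obtain ⟨x', rfl⟩ := hy.2
      exact h2 (congrArg i (hsub Y hY x' hy.1 h1))
    refine ⟨fun y hy => by_contra fun hyW => ?_, hall⟩
    obtain ⟨w, hw, x, rfl⟩ := nonempty_inter_of_isClosed hb ((hSc Y hY).inter W.isOpen.isClosed_compl)
      ⟨y, hy, hyW⟩
    exact hw.2 (hall x hw.1 ▸ hzW)
  let B : Set X := ⋃₀ {Y ∈ S | i z ∉ Y}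
  have hB : IsClosed B := by
    rw [show B = ⋃ Y ∈ {Y ∈ S | i z ∉ Y}, Y from Set.sUnion_eq_biUnion]
    exact (hSfin.subset fun Y h => h.1).isClosed_biUnion fun Y h => hSc Y h.1
  let G : Set X := ⋃₀ {Y ∈ S | i z ∈ Y}
  have hG : IsClosed G := by
    rw [show G = ⋃ Y ∈ {Y ∈ S | i z ∈ Y}, Y from Set.sUnion_eq_biUnion]
    exact (hSfin.subset fun Y h => h.1).isClosed_biUnion fun Y h => hSc Y h.1
  let W' : X.Opens := ⟨(W : Set X) ∩ Bᶜ, W.isOpen.inter hB.isOpen_compl⟩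
  have hE : (W' : Set X) \ (X.basicOpen P : Set X) = G := by
    refine Set.Subset.antisymm (fun x hx => ?_) fun x hx => ?_
    · obtain ⟨Y, hY, hxY⟩ := Set.mem_sUnion.1 (hSU.le (subset_closure ⟨hx.1.1, hx.2⟩) : x ∈ ⋃₀ S)
      exact ⟨Y, ⟨hY, by_contra fun h => hx.1.2 ⟨Y, ⟨hY, h⟩, hxY⟩⟩, hxY⟩
    · obtain ⟨Y, ⟨hY, hzY⟩, hxY⟩ := hx
      have hxW : x ∈ (W : Set X) := (hin Y hY hzY).1 hxY
      refine ⟨⟨hxW, fun hxB => ?_⟩, hCW ⟨hS Y hY hxY, hxW⟩⟩
      obtain ⟨Y', ⟨hY', hzY'⟩, hxY'⟩ := hxB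
      obtain ⟨w, hw, x', rfl⟩ := nonempty_inter_of_isClosed hb ((hSc Y hY).inter (hSc Y' hY'))
        ⟨x, hxY, hxY'⟩
      exact hzY' ((hin Y hY hzY).2 x' hw.1 ▸ hw.2)
  refine ⟨W', fun x hx => hx.1, ⟨hzW, ?_⟩, hE ▸ hG, fun T hT hTE hne => ?_⟩
  · rintro ⟨Y, ⟨-, h⟩, hY⟩
    exact h hY
  · obtain ⟨w, hw, x, rfl⟩ := nonempty_inter_of_isClosed hb hT hne
    have h := hTE hw
    exact hzero x h.1.1 h.2 ▸ hw

end Groth.L15.PicLift
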