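import Groth.Agent.L15.PicLift.Core

/-!
Lifting invertible modules from a closed subscheme of dimension at most one when locally closed sets
with discrete trace can be separated.
-/

set_option autoImplicit false
universe u

open CategoryTheory AlgebraicGeometry TopologicalSpace

noncomputable section

namespace Groth.L15.PicLift

variable {X X₀ : Scheme.{u}}

theorem separates_of_discrete_trace [IsNoetherian X] (i : X₀ ⟶ X) [IsClosedImmersion i]
    (h2 : ∀ Y : Set ↥X, IsLocallyClosed Y → DiscreteTopology ↥(Y ∩ Set.range ⇑i) →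
      ∃ Y' : Set ↥X, Y' ⊆ Y ∧ IsClosed Y' ∧ (∃ O : Set ↥X, IsOpen O ∧ Y' = Y ∩ O) ∧
        Y ∩ Set.range ⇑i ⊆ Y') :
    Separates i := by
  intro z _ W _ P hzW hzP hzero
  let Y : Set X := (W : Set X) \ (X.basicOpen P : Set X)
  have hY : IsLocallyClosed Y :=
    W.isOpen.isLocallyClosed.inter (X.basicOpen P).isOpen.isClosed_compl.isLocallyClosed
  have htr : ∀ S ⊆ Y, DiscreteTopology ↥(S ∩ Set.range ⇑i) := fun S hS => by
    have hs : (S ∩ Set.range ⇑i).Subsingleton := by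
      rintro _ ⟨hx, x, rfl⟩ _ ⟨hy, y, rfl⟩
      rw [hzero x (hS hx).1 (hS hx).2, hzero y (hS hy).1 (hS hy).2]
    haveI := hs.coe_sort
    infer_instance
  let 𝒮 : Set (TopologicalSpace.Closeds X) :=
    {C | i z ∈ C ∧ ∃ O : Set X, IsOpen O ∧ (C : Set X) = Y ∩ O}
  have hne : 𝒮.Nonempty := by
    obtain ⟨Y', -, hY', hO, hsub⟩ := h2 Y hY (htr Y le_rfl)
    exact ⟨⟨Y', hY'⟩, hsub ⟨⟨hzW, hzP⟩, z, rfl⟩, hO⟩
  obtain ⟨C, ⟨hzC, O, hO, hCO⟩, hmin⟩ :=
    (wellFounded_lt (α := TopologicalSpace.Closeds X)).has_min 𝒮 hne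
  have hCY : (C : Set X) ⊆ Y := hCO.le.trans Set.inter_subset_left
  refine ⟨W ⊓ ⟨O, hO⟩, inf_le_left, ⟨hzW, (hCO.le hzC).2⟩, ?_, fun T hT hTC hTne => ?_⟩
  · have h : ((W ⊓ ⟨O, hO⟩ : X.Opens) : Set X) \ (X.basicOpen P : Set X) = (C : Set X) := by
      rw [hCO]
      exact Set.inter_sdiff_right_comm ..
    rw [h]
    exact C.isClosed
  · obtain ⟨x, hxT, hx⟩ := hT.exists_closed_singleton hTne
    by_contra hne'
    have hxC : x ∈ (C : Set X) := hCO.ge ⟨⟨(hTC hxT).1.1, (hTC hxT).2⟩, (hTC hxT).1.2⟩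
    have hxz : i z ≠ x := fun h => hne' (h ▸ hxT)
    obtain ⟨C', hC'sub, hC', ⟨O', hO', hC'O⟩, htrace⟩ :=
      h2 ((C : Set X) ∩ {x}ᶜ) (C.isClosed.isLocallyClosed.inter hx.isOpen_compl.isLocallyClosed)
        (htr _ (Set.inter_subset_left.trans hCY))
    refine hmin ⟨C', hC'⟩ ⟨htrace ⟨⟨hzC, hxz⟩, z, rfl⟩, O ∩ ({x}ᶜ ∩ O'),
      hO.inter (hx.isOpen_compl.inter hO'), ?_⟩ ?_
    · show C' = _
      rw [hC'O, hCO, Set.inter_assoc, Set.inter_assoc]
    · exact lt_of_le_not_ge (fun y hy => (hC'sub hy).1) fun h => (hC'sub (h hxC)).2 rfl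

end Groth.L15.PicLift
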